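import Cfsg.Agent.TwoAlt.Basic
import Cfsg.Agent.TwoAlt.Alt
import Cfsg.Agent.LocalEven.CoreGeneration
import Cfsg.Agent.PermB.DirectPower
import Cfsg.Agent.S0205

/-!
Local consequences of `C(J) = ⟨J⟩ × A_m`, `m = 4, 5`: elementary Sylow `2`-subgroup of order `8`,
one class of involutions, and a simple minimal normal subgroup containing it.
-/

set_option autoImplicit false
set_option linter.style.haveILetI false

namespace Cfsg.Agent.TwoAlt

open Subgroup

variable {G : Type*} [Group G] [Finite G] {J : G} {T : Subgroup G} {S : Sylow 2 G} {m : ℕ}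

theorem Data.embed (e : T ≃* alternatingGroup (Fin m)) {x : G} (hx : x ∈ T) :
    ((e.symm (e ⟨x, hx⟩) : T) : G) = x := by simp

theorem Data.card_centralizer (hd : Data J T S) (e : T ≃* alternatingGroup (Fin m)) :
    Nat.card (centralizer ({J} : Set G)) = 2 * Nat.card (alternatingGroup (Fin m)) := by
  rw [hd.card_eq le_rfl hd.J_mem, inf_eq_right.2 hd.hTC, Nat.card_congr e.toEquiv]

theorem Data.card_sylow (hd : Data J T S) (e : T ≃* alternatingGroup (Fin m)) (hm : Small m) :
    Nat.card (S : Subgroup G) = 8 := by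
  haveI : Fact (Nat.Prime 2) := ⟨Nat.prime_two⟩
  have hC := hd.card_centralizer e
  have hdvd : Nat.card (S : Subgroup G) ∣ Nat.card (centralizer ({J} : Set G)) :=
    card_dvd_of_le hd.le
  have h8 : 2 ^ 3 ∣ Nat.card G := by
    refine dvd_trans ?_ (card_subgroup_dvd_card (centralizer ({J} : Set G)))
    rcases hm.card with h | h <;> rw [hC, h] <;> decide
  have h8' : 2 ^ 3 ∣ Nat.card (S : Subgroup G) := S.pow_dvd_card_of_pow_dvd_card h8
  obtain ⟨k, hk⟩ := S.isPGroup'.exists_card_eq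
  rw [hk] at hdvd h8' ⊢
  have hk3 : 3 ≤ k := (Nat.pow_dvd_pow_iff_le_right (by norm_num)).1 h8'
  have hk4 : k < 4 := by
    by_contra! h
    have : 2 ^ 4 ∣ Nat.card (centralizer ({J} : Set G)) := (pow_dvd_pow 2 h).trans hdvd
    rcases hm.card with h | h <;> rw [hC, h] at this <;> exact absurd this (by decide)
  rw [show k = 3 by omega]
  rfl

theorem Data.sq_mul (hd : Data J T S) {τ : G} (hτ : τ ∈ T) : (J * τ) * (J * τ) = τ * τ := by
  rw [show (J * τ) * (J * τ) = J * (τ * J) * τ by group, ← hd.comm hτ,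
    show J * (J * τ) * τ = (J * J) * (τ * τ) by group, hd.sq, one_mul]

theorem Data.sylow_sq (hd : Data J T S) (e : T ≃* alternatingGroup (Fin m)) (hm : Small m)
    {x : G} (hx : x ∈ (S : Subgroup G)) : x * x = 1 := by
  have h8 : x ^ 8 = 1 := by
    have := congrArg Subtype.val (pow_card_eq_one' (x := (⟨x, hx⟩ : (S : Subgroup G))))
    rwa [hd.card_sylow e hm] at this
  obtain ⟨τ, hτ, h⟩ := hd.cover x (hd.le hx)
  have hτ8 : (e ⟨τ, hτ⟩) ^ 8 = 1 := by
    have : τ ^ 8 = 1 := by
      rcases h with rfl | rfl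
      · exact h8
      · rw [show (8 : ℕ) = 2 * 4 from rfl, pow_mul, pow_two, ← hd.sq_mul hτ, ← pow_two, ← pow_mul]
        exact h8
    rw [← map_pow, ← map_one e]
    exact congrArg e (Subtype.ext this)
  have hττ : τ * τ = 1 := by
    have := hm.pow_eight _ hτ8
    rw [← map_mul, ← map_one e] at this
    exact congrArg Subtype.val (e.injective this)
  rcases h with rfl | rfl
  · exact hττ
  · rw [hd.sq_mul hτ, hττ]

theorem Data.sylow_comm (hd : Data J T S) (e : T ≃* alternatingGroup (Fin m)) (hm : Small m)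
    {x y : G} (hx : x ∈ (S : Subgroup G)) (hy : y ∈ (S : Subgroup G)) : x * y = y * x := by
  have hxi : x⁻¹ = x := inv_eq_of_mul_eq_one_right (hd.sylow_sq e hm hx)
  have hyi : y⁻¹ = y := inv_eq_of_mul_eq_one_right (hd.sylow_sq e hm hy)
  have hxyi : (x * y)⁻¹ = x * y :=
    inv_eq_of_mul_eq_one_right (hd.sylow_sq e hm (mul_mem hx hy))
  rw [← hxyi, mul_inv_rev, hxi, hyi]

theorem Data.isElementary (hd : Data J T S) (e : T ≃* alternatingGroup (Fin m)) (hm : Small m) :
    IsElementaryAbelian 2 (S : Subgroup G) :=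
  ⟨⟨⟨fun a b => Subtype.ext (hd.sylow_comm e hm a.2 b.2)⟩⟩,
    fun a ha => by rw [pow_two]; exact hd.sylow_sq e hm ha⟩

/-- One class of involutions, in any subgroup containing the centralizer's Sylow subgroup and `T`
with no subgroup of index two. -/
theorem Data.conj_in (hd : Data J T S) (e : T ≃* alternatingGroup (Fin m)) (hm : Small m)
    (N : Subgroup G) (hTN : T ≤ N) (hSN : (S : Subgroup G) ≤ N)
    (hno : ∀ H : Subgroup N, H.index ≠ 2) {x : G} (hxN : x ∈ N) (hx : orderOf x = 2) :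
    ∃ g ∈ N, g * x * g⁻¹ = J := by
  haveI : Fact (Nat.Prime 2) := ⟨Nat.prime_two⟩
  let SN : Sylow 2 N := S.subtype hSN
  set M : Subgroup N := ((S : Subgroup G) ⊓ T).subgroupOf N with hM
  have hcard : 2 * Nat.card M = Nat.card (SN : Subgroup N) := by
    rw [hM, Nat.card_congr (subgroupOfEquivOfLe (inf_le_right.trans hTN)).toEquiv,
      ← hd.card_eq hd.le hd.mem]
    exact (Nat.card_congr (subgroupOfEquivOfLe hSN).toEquiv).symm
  have key : ∀ z : G, z ∈ N → orderOf z = 2 → ∃ g ∈ N, g * z * g⁻¹ ∈ T ∧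
      (g * z * g⁻¹) * (g * z * g⁻¹) = 1 ∧ g * z * g⁻¹ ≠ 1 := by
    intro z hzN hz
    obtain ⟨g, hg⟩ := Invol.exists_conj_mem_of_no_index_two hno SN M hcard
      (x := ⟨z, hzN⟩) (by rw [← Subgroup.orderOf_coe]; exact hz)
    refine ⟨(g : G)⁻¹, inv_mem g.2, ?_, ?_, ?_⟩
    · rw [hM, mem_subgroupOf] at hg
      simpa using hg.2
    · have hzz : z * z = 1 := by rw [← pow_two, ← hz, pow_orderOf_eq_one]
      calc _ = (g : G)⁻¹ * (z * z) * (g : G)⁻¹⁻¹ := by group
        _ = 1 := by rw [hzz]; group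
    · intro h
      have : z = 1 := by
        calc z = (g : G) * ((g : G)⁻¹ * z * (g : G)⁻¹⁻¹) * (g : G)⁻¹ := by group
          _ = 1 := by rw [h]; group
      rw [this, orderOf_one] at hz
      exact absurd hz (by norm_num)
  obtain ⟨g₁, hg₁, ha, ha2, ha1⟩ := key x hxN hx
  obtain ⟨g₂, hg₂, hb, hb2, hb1⟩ := key J (hSN hd.mem) hd.hJ
  obtain ⟨c, hc⟩ := hm.conj (e ⟨_, ha⟩) (e ⟨_, hb⟩)
    (by rw [← map_mul, ← map_one e]; exact congrArg e (Subtype.ext ha2))
    (fun h => ha1 (congrArg Subtype.val (e.injective (h.trans (map_one e).symm))))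
    (by rw [← map_mul, ← map_one e]; exact congrArg e (Subtype.ext hb2))
    (fun h => hb1 (congrArg Subtype.val (e.injective (h.trans (map_one e).symm))))
  set τ : T := e.symm c with hτ
  have hτe : (τ : G) * (g₁ * x * g₁⁻¹) * (τ : G)⁻¹ = g₂ * J * g₂⁻¹ := by
    have h1 : e (τ * ⟨_, ha⟩ * τ⁻¹) = e ⟨_, hb⟩ := by
      rw [map_mul, map_mul, map_inv, hτ, e.apply_symm_apply, hc]
    exact congrArg Subtype.val (e.injective h1)
  refine ⟨g₂⁻¹ * (τ : G) * g₁, mul_mem (mul_mem (inv_mem hg₂) (hTN τ.2)) hg₁, ?_⟩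
  calc g₂⁻¹ * (τ : G) * g₁ * x * (g₂⁻¹ * (τ : G) * g₁)⁻¹
      = g₂⁻¹ * ((τ : G) * (g₁ * x * g₁⁻¹) * (τ : G)⁻¹) * g₂ := by group
    _ = J := by rw [hτe]; group

theorem Data.conj_G (hd : Data J T S) (e : T ≃* alternatingGroup (Fin m)) (hm : Small m)
    (hno : ∀ H : Subgroup G, H.index ≠ 2) {x : G} (hx : orderOf x = 2) :
    ∃ g : G, g * x * g⁻¹ = J := by
  obtain ⟨g, -, hg⟩ := hd.conj_in e hm ⊤ le_top le_top (fun H hH => hno (H.map (⊤ : Subgroup G).subtype)
    (by rw [index_map_subtype, hH, index_top, mul_one])) (mem_top x) hx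
  exact ⟨g, hg⟩

theorem Data.core_centralizer (hd : Data J T S) (e : T ≃* alternatingGroup (Fin m)) (hm : Small m)
    {K : Subgroup G} (hK : K ≤ centralizer ({J} : Set G)) (hodd : Odd (Nat.card K))
    (hn : ∀ g ∈ centralizer ({J} : Set G), ∀ k ∈ K, g * k * g⁻¹ ∈ K) : K = ⊥ := by
  have hKT : K ≤ T := by
    intro k hk
    obtain ⟨τ, hτ, h | h⟩ := hd.cover k (hK hk)
    · rwa [h]
    · exfalso
      obtain ⟨r, hr⟩ := hodd.of_dvd_nat (Subgroup.orderOf_dvd_natCard K hk)
      have h1 : k ^ (2 * r + 1) = 1 := by rw [← hr, pow_orderOf_eq_one]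
      rw [h, pow_succ, pow_mul, pow_two, hd.sq_mul hτ] at h1
      have h2 : J * ((τ * τ) ^ r * τ) = 1 := by
        rw [← h1]
        have hc : Commute J ((τ * τ) ^ r) := hd.comm (pow_mem (mul_mem hτ hτ) r)
        rw [← mul_assoc, hc.eq, mul_assoc]
      apply hd.mul_notMem (mul_mem (pow_mem (mul_mem hτ hτ) r) hτ)
      rw [h2]
      exact one_mem T
  have hbot := hm.core ((K.subgroupOf T).map e.toMonoidHom) ?_ ?_
  · rw [eq_bot_iff]
    intro k hk
    have : e ⟨k, hKT hk⟩ ∈ (K.subgroupOf T).map e.toMonoidHom := ⟨_, hk, rfl⟩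
    rw [hbot, mem_bot, ← map_one e] at this
    exact mem_bot.2 (congrArg Subtype.val (e.injective this))
  · refine Subgroup.Normal.map ⟨fun k hk g => ?_⟩ _ e.surjective
    rw [mem_subgroupOf] at hk ⊢
    exact hn g (hd.hTC g.2) k hk
  · rwa [card_map_of_injective e.injective, Nat.card_congr (subgroupOfEquivOfLe hKT).toEquiv]

theorem Data.inf_centralizer (hd : Data J T S) (e : T ≃* alternatingGroup (Fin m)) (hm : Small m)
    (hno : ∀ H : Subgroup G, H.index ≠ 2) (X : Subgroup G) [hX : X.Normal]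
    (hodd : Odd (Nat.card X)) {z : G} (hz : orderOf z = 2) :
    X ⊓ centralizer ({z} : Set G) = ⊥ := by
  obtain ⟨g, hg⟩ := hd.conj_G e hm hno hz
  have hKbot : X ⊓ centralizer ({J} : Set G) = ⊥ :=
    hd.core_centralizer e hm inf_le_right (hodd.of_dvd_nat (card_dvd_of_le inf_le_left))
      fun c hc k hk => ⟨hX.conj_mem k hk.1 c,
        (centralizer ({J} : Set G)).mul_mem ((centralizer ({J} : Set G)).mul_mem hc hk.2)
          ((centralizer ({J} : Set G)).inv_mem hc)⟩
  rw [eq_bot_iff]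
  intro w hw
  have h1 : g * w * g⁻¹ ∈ X ⊓ centralizer ({J} : Set G) := by
    refine ⟨hX.conj_mem w hw.1 g, mem_centralizer_singleton_iff.2 ?_⟩
    have h := mem_centralizer_singleton_iff.1 hw.2
    rw [← hg]
    calc g * w * g⁻¹ * (g * z * g⁻¹) = g * (w * z) * g⁻¹ := by group
      _ = g * (z * w) * g⁻¹ := by rw [h]
      _ = g * z * g⁻¹ * (g * w * g⁻¹) := by group
  rw [hKbot, mem_bot] at h1
  rw [mem_bot]
  calc w = g⁻¹ * (g * w * g⁻¹) * g := by group
    _ = 1 := by rw [h1]; group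

theorem Data.oddNormal_eq_bot (hd : Data J T S) (e : T ≃* alternatingGroup (Fin m)) (hm : Small m)
    (hno : ∀ H : Subgroup G, H.index ≠ 2) (X : Subgroup G) [hX : X.Normal]
    (hodd : Odd (Nat.card X)) : X = ⊥ := by
  have h8 := hd.card_sylow e hm
  have h2 := hd.card_eq hd.le hd.mem
  obtain ⟨a, ha, ha1⟩ : ∃ a ∈ (S : Subgroup G) ⊓ T, a ≠ 1 := by
    apply (Subgroup.ne_bot_iff_exists_ne_one (H := (S : Subgroup G) ⊓ T)).mp ?_ |>.elim
    · intro a ha; exact ⟨a, a.2, fun h => ha (Subtype.ext h)⟩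
    · intro h
      rw [h, card_bot] at h2
      omega
  have ha2 : a * a = 1 := hd.sylow_sq e hm ha.1
  have hsa : (J * a) * (J * a) = 1 := hd.sylow_sq e hm (mul_mem hd.mem ha.1)
  have hoa : orderOf a = 2 := orderOf_eq_prime (by rw [pow_two, ha2]) ha1
  have hoJa : orderOf (J * a) = 2 :=
    orderOf_eq_prime (by rw [pow_two, hsa]) (fun h => hd.mul_notMem ha.2 (h ▸ T.one_mem))
  have hnorm : ∀ z : G, z ∈ normalizer (X : Set G) := fun z => by
    rw [normalizer_eq_top]; exact mem_top z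
  rw [eq_bot_iff]
  intro w hw
  have e1 := LocalEven.CoreGen.inverts hd.sq (hnorm J) (hd.inf_centralizer e hm hno X hodd hd.hJ) hw
  have e2 := LocalEven.CoreGen.inverts ha2 (hnorm a) (hd.inf_centralizer e hm hno X hodd hoa) hw
  have e3 := LocalEven.CoreGen.inverts hsa (hnorm (J * a))
    (hd.inf_centralizer e hm hno X hodd hoJa) hw
  have hJi : J⁻¹ = J := inv_eq_of_mul_eq_one_right hd.sq
  have e2' : a * w⁻¹ * a = w := by
    rw [← e2, show a * (a * w * a) * a = (a * a) * w * (a * a) by group, ha2]; group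
  have e1' : J * (a * w * a) * J = w := by
    rw [e2]
    have := congrArg (·⁻¹) e1
    simpa [hJi, mul_assoc] using this
  have h4 : w⁻¹ = w := by
    rw [← e3]
    calc J * a * w * (J * a) = J * (a * w * (J * a)) := by group
      _ = J * (a * w * (a * J)) := by rw [hd.comm ha.2]
      _ = J * (a * w * a) * J := by group
      _ = w := e1'
  have : w * w = 1 := by
    calc w * w = w⁻¹ * w := by rw [h4]
      _ = 1 := inv_mul_cancel w
  exact mem_bot.2 (mem_odd_sq hodd hw this)

theorem Data.no_solvable_normal (hd : Data J T S) (e : T ≃* alternatingGroup (Fin m)) (hm : Small m)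
    (hno : ∀ H : Subgroup G, H.index ≠ 2) (hns : ¬ Group.IsSolvable G) (N : Subgroup G) [N.Normal]
    (hN : Group.IsSolvable N) (hmin : ∀ K : Subgroup G, K.Normal → K ≤ N → K = ⊥ ∨ K = N) :
    N = ⊥ := by
  haveI : Fact (Nat.Prime 2) := ⟨Nat.prime_two⟩
  by_contra hne
  have hcomm : ⁅N, N⁆ = ⊥ := by
    rcases hmin ⁅N, N⁆ inferInstance (commutator_le_left N N) with h | h
    · exact h
    · exfalso
      haveI := hN
      haveI : Nontrivial N := (nontrivial_iff_ne_bot N).2 hne
      have h1 := Group.IsSolvable.commutator_lt_top_of_nontrivial (G := N)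
      apply h1.ne
      apply map_injective N.subtype_injective
      rw [map_subtype_commutator, ← MonoidHom.range_eq_map, range_subtype, h]
  have hab : ∀ x ∈ N, ∀ y ∈ N, x * y = y * x := fun x hx y hy =>
    commutatorElement_eq_one_iff_mul_comm.1 (mem_bot.1 (hcomm ▸ commutator_mem_commutator hx hy))
  have heven : ¬ Odd (Nat.card N) := fun h => hne (hd.oddNormal_eq_bot e hm hno N h)
  obtain ⟨z, hz⟩ := exists_prime_orderOf_dvd_card' (G := N) 2
    (even_iff_two_dvd.1 (Nat.not_odd_iff_even.1 heven))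
  have hzG : orderOf (z : G) = 2 := by rw [Subgroup.orderOf_coe]; exact hz
  have hinv : ∀ u : G, orderOf u = 2 → u ∈ N := by
    intro u hu
    obtain ⟨g, hg⟩ := hd.conj_G e hm hno hu
    obtain ⟨h, hh⟩ := hd.conj_G e hm hno hzG
    have hJN : J ∈ N := hh ▸ Subgroup.Normal.conj_mem inferInstance _ z.2 h
    have := Subgroup.Normal.conj_mem (inferInstance : N.Normal) J hJN g⁻¹
    rw [← hg] at this
    simpa [mul_assoc] using this
  let V : Subgroup G :=
    { carrier := {x | x ∈ N ∧ x * x = 1}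
      one_mem' := ⟨one_mem N, mul_one 1⟩
      mul_mem' := fun {x y} hx hy => ⟨mul_mem hx.1 hy.1, by
        rw [show x * y * (x * y) = x * (y * x) * y by group, ← hab x hx.1 y hy.1,
          show x * (x * y) * y = (x * x) * (y * y) by group, hx.2, hy.2, mul_one]⟩
      inv_mem' := fun {x} hx => ⟨inv_mem hx.1, by
        rw [← mul_inv_rev, hx.2, inv_one]⟩ }
  have hSV : (S : Subgroup G) ≤ V := fun x hx => by
    by_cases hx1 : x = 1
    · subst hx1; exact one_mem V
    · exact ⟨hinv x (orderOf_eq_prime (by rw [pow_two, hd.sylow_sq e hm hx]) hx1),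
        hd.sylow_sq e hm hx⟩
  have hV2 : IsPGroup 2 V := fun x => ⟨1, Subtype.ext (by
    rw [pow_one, Subgroup.coe_pow, pow_two]; exact x.2.2)⟩
  have hVS : V = (S : Subgroup G) := S.is_maximal' hV2 hSV
  haveI hSn : (S : Subgroup G).Normal := ⟨fun x hx g => by
    rw [← hVS] at hx ⊢
    refine ⟨Subgroup.Normal.conj_mem inferInstance x hx.1 g, ?_⟩
    rw [show g * x * g⁻¹ * (g * x * g⁻¹) = g * (x * x) * g⁻¹ by group, hx.2]
    group⟩
  apply hns
  have h1 : Group.IsSolvable (S : Subgroup G) :=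
    Group.isSolvable_of_comm fun a b => Subtype.ext (hd.sylow_comm e hm a.2 b.2)
  have h2 : Group.IsSolvable (G ⧸ (S : Subgroup G)) := S0205.result (by
    rw [← Subgroup.index_eq_card, Nat.odd_iff, ← Nat.two_dvd_ne_zero]
    exact S.not_dvd_index)
  exact (Group.isSolvable_iff_subgroup_quotient (S : Subgroup G)).2 ⟨h1, h2⟩

/-- The unique minimal normal subgroup is simple and contains the Sylow subgroup. -/
theorem Data.exists_simple (hd : Data J T S) (e : T ≃* alternatingGroup (Fin m)) (hm : Small m)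
    (hno : ∀ H : Subgroup G, H.index ≠ 2) (hns : ¬ Group.IsSolvable G) :
    ∃ N : Subgroup G, N.Normal ∧ IsSimpleGroup N ∧ ¬ IsMulCommutative N ∧
      (S : Subgroup G) ≤ N ∧ (∀ H : Subgroup N, H.index ≠ 2) ∧
      centralizer (N : Set G) = ⊥ := by
  haveI : Fact (Nat.Prime 2) := ⟨Nat.prime_two⟩
  haveI : Nontrivial G := ⟨⟨J, 1, hd.ne_one⟩⟩
  have hne : {M : Subgroup G | M.Normal ∧ M ≠ ⊥}.Nonempty := ⟨⊤, inferInstance, top_ne_bot⟩
  haveI : Finite (Subgroup G) :=
    Finite.of_injective (fun K : Subgroup G => (K : Set G)) SetLike.coe_injective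
  obtain ⟨N, ⟨hNn, hNne⟩, hNmin⟩ := (Set.toFinite _).exists_minimal hne
  haveI := hNn
  have hmin : ∀ K : Subgroup G, K.Normal → K ≤ N → K = ⊥ ∨ K = N := fun K hK hKN => by
    by_cases h : K = ⊥
    · exact Or.inl h
    · exact Or.inr (le_antisymm hKN (hNmin ⟨hK, h⟩ hKN))
  obtain ⟨T₀, _, _, k, hsimp, hk, ⟨ψ⟩⟩ := PermB.exists_mulEquiv_pi_simple N hNne hmin
  have hT0ns : ¬ Group.IsSolvable T₀ := fun h => hNne (hd.no_solvable_normal e hm hno hns N (by
    have hc : ∀ a b : T₀, a * b = b * a := IsSimpleGroup.comm_iff_isSolvable.2 h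
    exact Group.isSolvable_of_comm fun a b =>
      ψ.injective (by rw [map_mul, map_mul]; exact funext fun i => hc _ _)) hmin)
  have heven : Even (Nat.card T₀) :=
    Nat.not_odd_iff_even.1 fun h => hT0ns (S0205.result h)
  have hnoT : ∀ H : Subgroup T₀, H.index ≠ 2 := fun H hH => by
    haveI := Subgroup.normal_of_index_eq_two hH
    rcases ‹H.Normal›.eq_bot_or_eq_top with h | h
    · rw [h, index_bot] at hH
      haveI : Fact (Nat.Prime 2) := ⟨Nat.prime_two⟩
      haveI : IsCyclic T₀ := isCyclic_of_prime_card hH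
      exact hT0ns (Group.isSolvable_of_comm fun a b => by
        letI := IsCyclic.commGroup (α := T₀); exact mul_comm a b)
    · rw [h, index_top] at hH; exact absurd hH (by norm_num)
  have h4 : 4 ∣ Nat.card T₀ := by
    obtain ⟨P⟩ : Nonempty (Sylow 2 T₀) := inferInstance
    obtain ⟨j, hj⟩ := P.isPGroup'.exists_card_eq
    have hj2 : 2 ≤ j := by
      by_contra! hlt
      have h2 := P.dvd_card_of_dvd_card heven.two_dvd
      rw [hj] at h2
      interval_cases j
      · exact absurd h2 (by decide)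
      · haveI : IsCyclic (P : Subgroup T₀) := isCyclic_of_prime_card (p := 2) (by rw [hj]; rfl)
        obtain ⟨H, hH⟩ := Invol.exists_index_two_of_cyclic_sylow heven P inferInstance
        exact hnoT H hH
    exact (show 2 ^ 2 ∣ Nat.card (P : Subgroup T₀) from hj ▸ pow_dvd_pow 2 hj2).trans
      (card_subgroup_dvd_card _)
  have hk1 : k = 1 := by
    have hcN : Nat.card N = Nat.card T₀ ^ k := by
      rw [Nat.card_congr ψ.toEquiv, Nat.card_pi, Finset.prod_const, Finset.card_univ,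
        Fintype.card_fin]
    have h1 : 2 ^ (2 * k) ∣ Nat.card G := by
      refine dvd_trans ?_ (card_subgroup_dvd_card N)
      rw [hcN, pow_mul]
      exact pow_dvd_pow_of_dvd h4 k
    have h2 : 2 ^ (2 * k) ∣ 2 ^ 3 := by
      have h := S.pow_dvd_card_of_pow_dvd_card h1
      rwa [hd.card_sylow e hm] at h
    have := (Nat.pow_dvd_pow_iff_le_right (by norm_num)).1 h2
    omega
  subst hk1
  let φ : N ≃* T₀ := ψ.trans (MulEquiv.funUnique (Fin 1) T₀)
  haveI hNs : IsSimpleGroup N := by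
    haveI : Nontrivial N := φ.toEquiv.nontrivial
    exact IsSimpleGroup.isSimpleGroup_of_surjective φ.symm.toMonoidHom φ.symm.surjective
  have hNnc : ¬ IsMulCommutative N := fun h => hT0ns (Group.isSolvable_of_comm fun a b => by
    haveI := h
    apply φ.symm.injective
    rw [map_mul, map_mul]
    exact mul_comm' _ _)
  have hnoN : ∀ H : Subgroup N, H.index ≠ 2 := fun H hH => hnoT (H.map φ.toMonoidHom)
    ((index_map_equiv H φ).trans hH)
  have hNeven : 2 ∣ Nat.card N := by rw [Nat.card_congr φ.toEquiv]; exact heven.two_dvd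
  obtain ⟨z, hz⟩ := exists_prime_orderOf_dvd_card' (G := N) 2 hNeven
  have hzG : orderOf (z : G) = 2 := by rw [Subgroup.orderOf_coe]; exact hz
  obtain ⟨h, hh⟩ := hd.conj_G e hm hno hzG
  have hJN : J ∈ N := hh ▸ hNn.conj_mem _ z.2 h
  have hinv : ∀ u : G, orderOf u = 2 → u ∈ N := fun u hu => by
    obtain ⟨g, hg⟩ := hd.conj_G e hm hno hu
    have := hNn.conj_mem J hJN g⁻¹
    rw [← hg] at this
    simpa [mul_assoc] using this
  have hSN : (S : Subgroup G) ≤ N := fun x hx => by
    by_cases hx1 : x = 1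
    · subst hx1; exact one_mem N
    · exact hinv x (orderOf_eq_prime (by rw [pow_two, hd.sylow_sq e hm hx]) hx1)
  refine ⟨N, hNn, hNs, hNnc, hSN, hnoN, hd.oddNormal_eq_bot e hm hno _ ?_⟩
  by_contra hev
  obtain ⟨u, hu⟩ := exists_prime_orderOf_dvd_card' (G := centralizer (N : Set G)) 2
    (even_iff_two_dvd.1 (Nat.not_odd_iff_even.1 hev))
  have huG : orderOf (u : G) = 2 := by rw [Subgroup.orderOf_coe]; exact hu
  have huN := hinv u huG
  have hcen : (⟨u, huN⟩ : N) ∈ center N := mem_center_iff.2 fun n => Subtype.ext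
    (mem_centralizer_iff.1 u.2 n n.2)
  have hZ : center N = ⊥ := (IsSimpleGroup.eq_bot_or_eq_top_of_normal (center N)
    inferInstance).resolve_right fun h =>
      hNnc ⟨⟨fun a b => (mem_center_iff.1 (h ▸ mem_top b) a)⟩⟩
  rw [hZ, mem_bot] at hcen
  have : (u : G) = 1 := congrArg Subtype.val hcen
  rw [this, orderOf_one] at huG
  exact absurd huG (by norm_num)

end Cfsg.Agent.TwoAlt
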